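import Cfsg.Agent.Lib.RootStructure.Delta

/-!
Root structure theorem (S5055; owner: helper1): the square of a line partner and an isolated member.

* `Ctx.claim` : if such a square lies in the `j`-th term of the series, it lies in the class
-/

set_option autoImplicit false
set_option linter.unusedSectionVars false

namespace Cfsg.Agent.RootStructure

open Cfsg
open RootInv (OddP FourP)

universe u

variable {G : Type u} [Group G] {D : Set G}

theorem prodAdj_of {a b : G} (hD : IsRootInvolutionSet D) (ha : a ∈ D) (hb : b ∈ D)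
    (hc : a * b = b * a) (hm : a * b ∈ D) : ProdAdj D a b :=
  ⟨ha, hb, fun e => RootInv.ne_one hD hm (by rw [e, RootInv.mul_self hD hb]), hc, hm⟩

namespace Ctx

variable [Finite G] (C : Ctx D)
include C

theorem claim_four {d v w z p y : G} (hv : ProdAdj D d v) (hw : Iso D d w) (hvw : FourP v w)
    (hz : v * w * (v * w) = z) (hp : p ∈ D) (hpz : FourP p z) (hpd : p * z * (p * z) = d) (hy : y ∈ D)
    (hzy : OddP z y) (hbr : z * y * z = y * z * y) (hyd : FourP y d) (hyp : y * d * (y * d) = p)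
    (hvy : FourP v y) : False := by
  have hD := C.set
  obtain ⟨hd, hv', -, hdv, hdvD⟩ := hv
  have hzv : ProdAdj D z v := hz ▸ prodAdj_symm (RootConnected.four_lines hD hv' hw.mem hvw).1
  have hzD : z ∈ D := hzv.1
  have hwd : w * d * w = d := by rw [hw.comm, mul_assoc, RootInv.mul_self hD hw.mem, mul_one]
  have hzd : z * d = d * z := hpd ▸ (RootInv.four_commute_right hD hp hzD hpz).eq.symm
  have hvdD : v * d ∈ D := hdv ▸ hdvD
  have hzvd : ProdAdj D z (v * d) := by
    refine prodAdj_of hD hzD hvdD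
      ((show Commute z v from hzv.2.2.2.1).mul_right (show Commute z d from hzd)).eq ?_
    have h1 : w * (v * d) * w = z * (v * d) := by
      calc w * (v * d) * w = w * v * 1 * d * w := by group
        _ = w * v * (w * w) * d * w := by rw [RootInv.mul_self hD hw.mem]
        _ = w * v * w * (w * d * w) := by group
        _ = z * v * d := by rw [(four_conj hD hv' hw.mem hvw hz).1, hwd]
        _ = z * (v * d) := mul_assoc _ _ _
    exact h1 ▸ RootInv.conj_mem' hD hvdD hw.mem
  have h4 : FourP (v * d) y := by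
    rcases RootInv.cases' hD hvdD hy with h | h | h
    · exact absurd h (line_moves hD hzvd hy hzy)
    · exfalso
      have h1 : v * d * v = d := by rw [← hdv, mul_assoc, RootInv.mul_self hD hv', mul_one]
      have h2 := RootInv.translate hD hvdD hy hv' h
        (by rw [mul_assoc v d v, hdv]) (by rw [h1]; exact hd) hvy
      rw [h1] at h2
      exact RootInv.not_odd_of_four hD (RootInv.fourP_symm hD hy hd hyd) h2
    · exact h
  obtain ⟨hW, hWz, hWv⟩ := braid_root hD hy hzy hbr hzv hvy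
  obtain ⟨hU, -, -⟩ := braid_root hD hy hzy hbr hzvd h4
  set W := v * y * (v * y) with hW_def
  have hWD : W ∈ D := RootInv.four_mem hD hv' hy hvy
  have hydy : y * d * y = p * d := (four_conj hD hy hd hyd hyp).2
  have hdp : d * p = p * d := hpd ▸ (RootInv.four_commute_left hD hp hzD hpz).eq
  have hzpd : z * (y * d * y) * z = p := by
    calc z * (y * d * y) * z = z * p * (d * z) := by rw [hydy]; group
      _ = z * p * z * d := by rw [← hzd]; group
      _ = d * p * d := by rw [(four_conj hD hp hzD hpz hpd).1]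
      _ = p := by rw [hdp, mul_assoc, RootInv.mul_self hD hd, mul_one]
  have h1 : d * W * d * p = W * p := by
    calc d * W * d * p = d * (v * y * (v * y)) * (y * d * y) := by
          rw [mul_assoc (d * W) d p, hdp, hydy, hW_def]
      _ = d * v * y * (v * (y * y) * d * y) := by group
      _ = v * d * y * (v * d * y) := by rw [RootInv.mul_self hD hy, hdv]; group
      _ = z * (y * (v * d) * y) * z := hU
      _ = z * (y * v * 1 * d * y) * z := by group
      _ = z * (y * v * (y * y) * d * y) * z := by rw [RootInv.mul_self hD hy]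
      _ = z * (y * v * y) * 1 * (y * d * y) * z := by group
      _ = z * (y * v * y) * (z * z) * (y * d * y) * z := by rw [RootInv.mul_self hD hzD]
      _ = z * (y * v * y) * z * (z * (y * d * y) * z) := by group
      _ = W * p := by rw [← hW, hzpd]
  have h2 : d * W * d = W := mul_right_cancel h1
  have hWd : W * d = d * W := by
    calc W * d = d * W * d * d := by rw [h2]
      _ = d * W := by rw [mul_assoc, RootInv.mul_self hD hd, mul_one]
  exact hw.2 W ⟨hWD, hWd⟩ (four_chain hD hw.mem hv' hWD hvw hz hWz hWv).1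

theorem claim {d : G} (hd : d ∈ D) {j : ℕ} (H : SqInClass D j) {v w : G} (hv : ProdAdj D d v)
    (hw : Iso D d w) (hvw : FourP v w) (hzj : v * w * (v * w) ∈ zc D d j) :
    v * w * (v * w) ∈ sameCommutingClass D d := by
  have hD := C.set
  have hv' := hv.2.1
  have hzi : Iso D d (v * w * (v * w)) := (iso_of_line hD hv).sq hD hw hvw
  generalize hz : v * w * (v * w) = z at hzi hzj ⊢
  by_contra hzE
  obtain ⟨hdz, p, hpi, hpz, hpd⟩ := C.delta hd H hzi hzj hzE (class_self hd)
  have hlp : ProdAdj D p d := hpd ▸ (RootConnected.four_lines hD hpi.mem hzi.mem hpz).1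
  obtain ⟨y, hy, hyd, hyp, -⟩ := C.root hlp fun e => RootInv.not_commute_of_four hD hpi.mem hzi.mem hpz
    (class_comm ⟨hpi.mem, e.2.symm⟩ hzi.mem hzi.comm).symm
  obtain ⟨hzy, hbr, -, -⟩ := four_chain hD hzi.mem hpi.mem hy hpz hpd hyd hyp
  have hzv : ProdAdj D z v := hz ▸ prodAdj_symm (RootConnected.four_lines hD hv' hw.mem hvw).1
  have hvy : OddP v y := by
    rcases RootInv.cases' hD hv' hy with h | h | h
    · exact absurd h (line_moves hD hzv hy hzy)
    · exact h
    · exact (C.claim_four hv hw hvw hz hpi.mem hpz hpd hy hzy hbr hyd hyp h).elim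
  have hyv := RootInv.oddP_symm hD hv' hy hvy
  -- `d = (p' v)²` for some `p'` on a line with `y`
  obtain ⟨p', hp'L, hp'v⟩ : ∃ q ∈ RootInv.lineSet D y v, q * v * (q * v) = d := by
    let φ : RootInv.lineSet D v y → RootInv.lineSet D v y := fun u =>
      ⟨_, RootInv.mapsTo_lineSet hD hy hv' hyv (RootInv.mapsTo_lineSet hD hv' hy hvy u.2)⟩
    have hinj : Function.Injective φ := fun u u' e => Subtype.ext
      (RootInv.injOn_lineSet hD hv' hy hvy u.2 u'.2
        (RootInv.injOn_lineSet hD hy hv' hyv (RootInv.mapsTo_lineSet hD hv' hy hvy u.2)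
          (RootInv.mapsTo_lineSet hD hv' hy hvy u'.2) (congrArg Subtype.val e)))
    obtain ⟨u, hu⟩ := Finite.surjective_of_injective hinj
      ⟨d, hd, hv.2.2.2.1, hv.2.2.2.1 ▸ hv.2.2.2.2, RootInv.fourP_symm hD hy hd hyd⟩
    exact ⟨_, RootInv.mapsTo_lineSet hD hv' hy hvy u.2, congrArg Subtype.val hu⟩
  obtain ⟨hp', hp'y, hyp'D, hp'v4⟩ := hp'L
  have hp'i : Iso D d p' := iso_of_line hD
    (prodAdj_symm (hp'v ▸ (RootConnected.four_lines hD hp' hv' hp'v4).1))
  have hp'z : FourP p' z := (hp'i.commute_or_four hD hzi).resolve_left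
    (line_moves hD (prodAdj_of hD hy hp' hp'y.symm hyp'D) hzi.mem (RootInv.oddP_symm hD hzi.mem hy hzy))
  set ε := p' * z * (p' * z) with hε_def
  have hε : ε ∈ sameCommutingClass D d := H d hd z hzi hzj p' hp'i hp'z
  have hlε : ProdAdj D p' ε := (RootConnected.four_lines hD hp' hzi.mem hp'z).1
  -- the root `r` of `v` over `d`
  obtain ⟨r, hr, hrd, hrv, hvr⟩ := C.root (prodAdj_symm hv) fun e =>
    RootInv.not_commute_of_four hD hv' hw.mem hvw (class_comm ⟨hv', e.2.symm⟩ hw.mem hw.comm).symm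
  obtain ⟨hp'r, hbr', hm, hmD⟩ := four_chain hD hp' hv' hr (RootInv.fourP_symm hD hp' hv' hp'v4)
    ((four_comm hD hp' hv' hp'v4).trans hp'v) hrd hrv
  have hεr : FourP ε r := by
    rcases RootInv.cases' hD hε.1 hr with h | h | h
    · exact absurd h (line_moves hD hlε hr hp'r)
    · exact absurd (RootInv.oddP_symm hD hε.1 hr h)
        ((iso_of_line hD hvr).2 ε ⟨hε.1, (class_comm hε hv' hv.2.2.2.1.symm).symm⟩)
    · exact h
  set b := ε * r * (ε * r) with hb_def
  have hlεb : ProdAdj D ε b := (RootConnected.four_lines hD hε.1 hr hεr).1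
  have hlbr : ProdAdj D b r := (RootConnected.four_lines hD hε.1 hr hεr).2
  have hb : b ∈ D := hlbr.1
  have hrp' := RootInv.oddP_symm hD hp' hr hp'r
  have hbp' : FourP b p' := by
    rcases RootInv.cases' hD hb hp' with h | h | h
    · exact absurd h (line_moves hD (prodAdj_symm hlbr) hp' hrp')
    · exact absurd hlε.2.2.2.1.symm (line_moves hD (prodAdj_symm hlεb) hp' h)
    · exact h
  have hbε : b * p' * (b * p') = ε := by
    obtain ⟨-, hWr, hWb⟩ := braid_root hD hp' hrp' hbr'.symm (prodAdj_symm hlbr) hbp'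
    have hl := (RootConnected.four_lines hD hb hp' hbp').2
    exact RootInv.injOn_lineSet hD hp' hr hp'r
      ⟨hl.1, hl.2.2.2.1, hl.2.2.2.1 ▸ hl.2.2.2.2, hWr⟩
      ⟨hε.1, hlε.2.2.2.1.symm, hlε.2.2.2.2, hεr⟩ hWb
  have hp'b := RootInv.fourP_symm hD hb hp' hbp'
  have hp'bε : p' * b * (p' * b) = ε := (four_comm hD hb hp' hbp').trans hbε
  -- `b` is conjugate to `z` in the centraliser of `ε`
  obtain ⟨Y, hY, hYε, hYp, -⟩ := C.root hlε fun e => RootInv.not_commute_of_four hD hp' hzi.mem hp'z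
    (class_comm ⟨hp', hε.2.trans e.2.symm⟩ hzi.mem hzi.comm).symm
  obtain ⟨-, hbrz, -, -⟩ := four_chain hD hzi.mem hp' hY hp'z hε_def.symm hYε hYp
  obtain ⟨-, hbrb, -, -⟩ := four_chain hD hb hp' hY hp'b hp'bε hYε hYp
  have hεb : ε * b = b * ε := hlεb.2.2.2.1
  have hεz : ε * z = z * ε := (RootInv.four_commute_right hD hp' hzi.mem hp'z).eq
  have hp'ε : p' * ε = ε * p' := hlε.2.2.2.1
  have hp'bp' : p' * b * p' = ε * b := (four_conj hD hp' hb hp'b hp'bε).2
  have hbzp : p' * (b * z) = b * z * p' := by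
    calc p' * (b * z) = p' * b * 1 * z * 1 := by group
      _ = p' * b * (p' * p') * z * (p' * p') := by rw [RootInv.mul_self hD hp']
      _ = (p' * b * p') * (p' * z * p') * p' := by group
      _ = b * (ε * ε) * z * p' := by
          rw [hp'bp', (four_conj hD hp' hzi.mem hp'z hε_def.symm).2, hεb]; group
      _ = b * z * p' := by rw [RootInv.mul_self hD hε.1, mul_one]
  set g := Y * (b * z) * Y⁻¹ with hg_def
  have hgε : g * ε * g⁻¹ = ε := by
    have h1 : Commute (b * z) (p' * ε) :=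
      (show Commute p' (b * z) from hbzp).symm.mul_right
        ((show Commute b ε from hεb.symm).mul_left hεz.symm)
    have h2 : Y * (p' * ε) * Y⁻¹ = ε := by
      rw [← (four_conj hD hY hε.1 hYε hYp).2, RootInv.inv_eq hD hY]
      exact RootInv.conj_self hD hε.1 hY
    have h3 := h1.map (MulAut.conj Y).toMonoidHom
    simp only [MulEquiv.coe_toMonoidHom, MulAut.conj_apply, h2] at h3
    rw [hg_def, h3.eq, mul_inv_cancel_right]
  have hgz : g * z * g⁻¹ = b := by
    have hYzY : Y * z * Y = z * Y * z := hbrz.symm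
    rw [hg_def, mul_inv_rev, mul_inv_rev, mul_inv_rev, inv_inv, RootInv.inv_eq hD hY,
      RootInv.inv_eq hD hb, RootInv.inv_eq hD hzi.mem]
    calc Y * (b * z) * Y * z * (Y * (z * b * Y)) = Y * b * z * (Y * z * Y) * z * b * Y := by group
      _ = Y * b * (z * z) * Y * (z * z) * b * Y := by rw [hYzY]; group
      _ = Y * (b * Y * b) * Y := by rw [RootInv.mul_self hD hzi.mem, mul_one, mul_one]; group
      _ = Y * (Y * b * Y) * Y := by rw [hbrb]
      _ = b := RootInv.conj_self hD hb hY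
  have hbi : Iso D d b := by
    have h := Iso.conj hD g (iso_congr hε.2 ▸ hzi : Iso D ε z)
    rw [hgε, hgz] at h
    rwa [iso_congr hε.2]
  have hbj : b ∈ zc D d j := by
    have h := zc_conj hD g (zc_congr hε.2 j ▸ hzj : z ∈ zc D ε j)
    rw [hgε, hgz] at h
    rwa [zc_congr hε.2 j]
  have hbE : b ∉ sameCommutingClass D d := fun e => hzE (by
    have h := class_conj hD g⁻¹ ((class_eq hε).symm ▸ e : b ∈ sameCommutingClass D ε)
    have h1 : g⁻¹ * ε * g⁻¹⁻¹ = ε := by nth_rw 1 [← hgε]; group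
    have h2 : g⁻¹ * b * g⁻¹⁻¹ = z := by rw [← hgz]; group
    rwa [h1, h2, class_eq hε] at h)
  -- `p' r p'` maps `d` to `v` and `ε` to `b`
  have hbv : b ∈ sameCommutingClass D v := by
    have h := class_conj hD (p' * r * p') hε
    rw [RootInv.inv_eq hD hmD, hm] at h
    have hmε : p' * r * p' * ε * (p' * r * p') = b := by
      have hp'εp' : p' * ε * p' = ε := by rw [hp'ε, mul_assoc, RootInv.mul_self hD hp', mul_one]
      calc p' * r * p' * ε * (p' * r * p') = p' * r * (p' * ε * p') * r * p' := by group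
        _ = p' * (r * ε * r) * p' := by rw [hp'εp']; group
        _ = p' * b * 1 * ε * p' := by rw [(four_conj hD hε.1 hr hεr hb_def.symm).1]; group
        _ = p' * b * (p' * p') * ε * p' := by rw [RootInv.mul_self hD hp']
        _ = (p' * b * p') * (p' * ε * p') := by group
        _ = b := by rw [hp'bp', hp'εp', hεb, mul_assoc, RootInv.mul_self hD hε.1, mul_one]
    rwa [hmε] at h
  have hwb : FourP w b := (hw.commute_or_four hD hbi).resolve_left fun e =>
    RootInv.not_commute_of_four hD hv' hw.mem hvw (class_comm' hbv hw.mem e).symm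
  set δ₀ := w * b * (w * b) with hδ₀_def
  have hδ₀ : δ₀ ∈ sameCommutingClass D d := H d hd b hbi hbj w hw hwb
  have hvδ : ∀ δ ∈ sameCommutingClass D d, ProdAdj D v δ := by
    intro δ hδ
    obtain ⟨hδb, x, hxi, hxb, hxe⟩ := C.delta hd H hbi hbj hbE hδ
    obtain ⟨R, hR, hRδ, hRb, -⟩ := C.root (prodAdj_symm hδb) fun e =>
      hbE ⟨hb, hδ.2.trans e.2.symm⟩
    obtain ⟨-, -, hm2, hm2D⟩ := four_chain hD hxi.mem hb hR (RootInv.fourP_symm hD hxi.mem hb hxb)
      ((four_comm hD hxi.mem hb hxb).trans hxe) hRδ hRb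
    set m := x * R * x
    have hmb : m * b * m = δ := by rw [← hm2, RootInv.conj_self hD hδ.1 hm2D]
    have hδi : Iso D b δ := by
      have h := Iso.conj hD m (iso_congr hδ.2 ▸ hbi : Iso D δ b)
      rwa [RootInv.inv_eq hD hm2D, hm2, hmb] at h
    have hδj : δ ∈ zc D b j := by
      have h := zc_conj hD m (zc_congr hδ.2 j ▸ hbj : b ∈ zc D δ j)
      rwa [RootInv.inv_eq hD hm2D, hm2, hmb] at h
    have hδE : δ ∉ sameCommutingClass D b := fun e => hbE ⟨hb, hδ.2.trans e.2.symm⟩
    exact (C.delta hb H hδi hδj hδE (class_symm hv' hbv)).1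
  -- counting on the lines through `v`
  obtain ⟨Yw, hYw, hYwδ, hYww, -⟩ := C.root (RootConnected.four_lines hD hw.mem hb hwb).1 fun e =>
    RootInv.not_commute_of_four hD hv' hw.mem hvw
      (class_comm ⟨hw.mem, hδ₀.2.trans e.2.symm⟩ hv' hv.2.2.2.1.symm)
  obtain ⟨hbYw, hbrw, -, -⟩ := four_chain hD hb hw.mem hYw hwb hδ₀_def.symm hYwδ hYww
  have hvYw : OddP v Yw := class_odd hD hb (class_symm hv' hbv) hYw hbYw
  have hδYw : ∀ δ ∈ sameCommutingClass D d, FourP δ Yw := fun δ hδ =>
    class_four hD hδ₀.1 ((class_eq hδ₀).symm ▸ hδ) hYw (RootInv.fourP_symm hD hYw hδ₀.1 hYwδ)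
  have hmemL : ∀ δ ∈ sameCommutingClass D d, δ ∈ RootInv.lineSet D v Yw := fun δ hδ =>
    ⟨hδ.1, (hvδ δ hδ).2.2.2.1.symm, (hvδ δ hδ).2.2.2.2, hδYw δ hδ⟩
  have hYwv := RootInv.oddP_symm hD hv' hYw hvYw
  have hYwb := RootInv.oddP_symm hD hb hYw hbYw
  let φ : RootInv.lineSet D v Yw → RootInv.lineSet D v Yw := fun u =>
    ⟨_, RootInv.mapsTo_lineSet hD hYw hv' hYwv (RootInv.mapsTo_lineSet hD hv' hYw hvYw u.2)⟩
  have hinj : Function.Injective φ := fun u u' e => Subtype.ext
    (RootInv.injOn_lineSet hD hv' hYw hvYw u.2 u'.2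
      (RootInv.injOn_lineSet hD hYw hv' hYwv (RootInv.mapsTo_lineSet hD hv' hYw hvYw u.2)
        (RootInv.mapsTo_lineSet hD hv' hYw hvYw u'.2) (congrArg Subtype.val e)))
  set S : Set (RootInv.lineSet D v Yw) := {u | (u : G) ∈ sameCommutingClass D d} with hS
  have hback : φ ⁻¹' S ⊆ S := by
    rintro ⟨u, hu⟩ hφ
    obtain ⟨hW', hW'c, hW'D, hW'v⟩ := RootInv.mapsTo_lineSet hD hv' hYw hvYw hu
    set W' := u * Yw * (u * Yw) with hW'_def
    have he : W' * v * (W' * v) ∈ sameCommutingClass D d := hφ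
    have hW'i : Iso D d W' := by
      rw [iso_congr he.2]
      exact iso_of_line hD (prodAdj_symm (RootConnected.four_lines hD hW' hv' hW'v).1)
    have hW'b : FourP W' b := (hW'i.commute_or_four hD hbi).resolve_left fun e =>
      RootInv.not_commute_of_four hD hW' hv' hW'v (class_comm' hbv hW' e)
    set ε₁ := W' * b * (W' * b) with hε₁_def
    have hε₁ : ε₁ ∈ sameCommutingClass D d := H d hd b hbi hbj W' hW'i hW'b
    obtain ⟨-, hW''b, hW''e⟩ := braid_root hD hYw hbYw hbrw
      (prodAdj_symm (RootConnected.four_lines hD hW' hb hW'b).2) (hδYw ε₁ hε₁)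
    have hl := (RootConnected.four_lines hD hε₁.1 hYw (hδYw ε₁ hε₁)).2
    have heq : W' = ε₁ * Yw * (ε₁ * Yw) := RootInv.injOn_lineSet hD hYw hb hYwb
      ⟨hW', hW'c, hW'D, hW'b⟩ ⟨hl.1, hl.2.2.2.1, hl.2.2.2.1 ▸ hl.2.2.2.2, hW''b⟩
      (hε₁_def.symm.trans hW''e.symm)
    have hu' : u = ε₁ := RootInv.injOn_lineSet hD hv' hYw hvYw hu (hmemL ε₁ hε₁) heq
    show u ∈ sameCommutingClass D d
    exact hu' ▸ hε₁
  have hpre : φ ⁻¹' S = S := Set.eq_of_subset_of_ncard_le hback
    (Set.ncard_preimage_of_injective_subset_range hinj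
      (fun x _ => Finite.surjective_of_injective hinj x)).ge (Set.toFinite _)
  have h0 : (⟨δ₀, hmemL δ₀ hδ₀⟩ : RootInv.lineSet D v Yw) ∈ φ ⁻¹' S := hpre.symm ▸ hδ₀
  have h1 : δ₀ * Yw * (δ₀ * Yw) * v * (δ₀ * Yw * (δ₀ * Yw) * v) ∈ sameCommutingClass D d := h0
  rw [(four_comm hD hYw hδ₀.1 hYwδ).trans hYww, four_comm hD hv' hw.mem hvw, hz] at h1
  exact hzE h1

end Ctx

end Cfsg.Agent.RootStructure
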