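import Cfsg.Agent.Lib.RootStructure.Iso

/-!
Root structure theorem (S5055; owner: helper1): squares of isolated pairs.

* `SqInClass D j` : the induction statement on the upper central series
* `Ctx.delta` : an isolated member outside the class completes every member of it to a line
-/

set_option autoImplicit false
set_option linter.unusedSectionVars false

namespace Cfsg.Agent.RootStructure

open Cfsg
open RootInv (OddP FourP)

universe u

variable {G : Type u} [Group G] {D : Set G}

/-- Squares of isolated pairs, one of them in the `j`-th term of the series, lie in the class. -/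
def SqInClass (D : Set G) (j : ℕ) : Prop :=
  ∀ d ∈ D, ∀ g, Iso D d g → g ∈ zc D d j → ∀ x, Iso D d x → FourP x g →
    x * g * (x * g) ∈ sameCommutingClass D d

namespace Ctx

variable [Finite G] (C : Ctx D)
include C

theorem delta {d : G} (hd : d ∈ D) {j : ℕ} (H : SqInClass D j) {g : G} (hg : Iso D d g)
    (hgz : g ∈ zc D d j) (hgE : g ∉ sameCommutingClass D d) {δ : G}
    (hδ : δ ∈ sameCommutingClass D d) :
    ProdAdj D δ g ∧ ∃ x, Iso D d x ∧ FourP x g ∧ x * g * (x * g) = δ := by
  have hD := C.set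
  -- a line partner of `d` moving `g`
  obtain ⟨x₀, hx₀, hmove⟩ : ∃ e, ProdAdj D d e ∧ g * e ≠ e * g := by
    by_contra hall
    push Not at hall
    exact hgE (C.mem_class_of_commute hd hg.mem hall)
  have hx₀i := iso_of_line hD hx₀
  have hx₀g : FourP x₀ g := (hx₀i.commute_or_four hD hg).resolve_left fun e => hmove e.symm
  set ε := x₀ * g * (x₀ * g) with hε_def
  have hε : ε ∈ sameCommutingClass D d := H d hd g hg hgz x₀ hx₀i hx₀g
  have hne : ε ∉ sameCommutingClass D x₀ := fun e => hmove (by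
    have h1 : commutingMembers D d = commutingMembers D x₀ := hε.2.trans e.2.symm
    exact class_comm ⟨hx₀i.mem, h1⟩ hg.mem hg.comm)
  obtain ⟨Y, hY, hYε, hYx, -⟩ := C.root (RootConnected.four_lines hD hx₀i.mem hg.mem hx₀g).1 hne
  obtain ⟨hgY, -, -, -⟩ := four_chain hD hg.mem hx₀i.mem hY hx₀g hε_def.symm hYε hYx
  have hdY : ∀ e ∈ sameCommutingClass D d, FourP e Y := by
    intro e he
    have h1 : FourP ε Y := RootInv.fourP_symm hD hY hε.1 hYε
    exact class_four hD hε.1 ((class_eq hε).symm ▸ he) hY h1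
  let q : G → G := fun e => e * Y * (e * Y)
  have hq : ∀ e ∈ sameCommutingClass D d, Iso D d (q e) ∧ FourP (q e) g ∧
      q e ∈ RootInv.lineSet D Y g := by
    intro e he
    have h4 := hdY e he
    obtain ⟨hl1, hl2⟩ := RootConnected.four_lines hD he.1 hY h4
    have hiso : Iso D d (q e) := by rw [iso_congr he.2]; exact iso_of_line hD hl1
    have hqg : q e * g ≠ g * q e :=
      line_moves hD (prodAdj_symm hl2) hg.mem (RootInv.oddP_symm hD hg.mem hY hgY)
    have h4' := (hiso.commute_or_four hD hg).resolve_left hqg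
    exact ⟨hiso, h4', hl2.1, hl2.2.2.2.1, hl2.2.2.2.1 ▸ hl2.2.2.2.2, h4'⟩
  let f : ↥(sameCommutingClass D d) → ↥(sameCommutingClass D d) := fun e =>
    ⟨q e.1 * g * (q e.1 * g), H d hd g hg hgz _ (hq e.1 e.2).1 (hq e.1 e.2).2.1⟩
  have hinj : Function.Injective f := by
    intro e₁ e₂ he
    obtain ⟨e₁, h₁⟩ := e₁
    obtain ⟨e₂, h₂⟩ := e₂
    have he' : q e₁ = q e₂ := RootInv.injOn_lineSet hD hY hg.mem (RootInv.oddP_symm hD hg.mem hY hgY)
      (hq e₁ h₁).2.2 (hq e₂ h₂).2.2 (congrArg Subtype.val he)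
    refine Subtype.ext (by_contra fun (hne : e₁ ≠ e₂) => ?_)
    have hc := class_comm_class h₁ h₂
    have hm : e₁ * e₂ ∈ sameCommutingClass D d := C.mul_mem d hd e₁ h₁ e₂ h₂ hne
    refine RootInv.not_commute_of_four hD hm.1 hY (hdY _ hm) ?_
    have h3 : e₁ * Y * e₁ = e₂ * Y * e₂ := by
      have h4 := congrArg (· * Y) he'
      simp only [q] at h4
      simpa [mul_assoc, RootInv.mul_self hD hY] using h4
    calc e₁ * e₂ * Y = e₁ * (e₂ * Y * e₂) * e₂ := by
          rw [show e₁ * (e₂ * Y * e₂) * e₂ = e₁ * e₂ * Y * (e₂ * e₂) by group,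
            RootInv.mul_self hD h₂.1, mul_one]
      _ = e₁ * e₁ * Y * (e₁ * e₂) := by rw [← h3]; group
      _ = Y * (e₁ * e₂) := by rw [RootInv.mul_self hD h₁.1, one_mul]
  obtain ⟨e, he⟩ := Finite.surjective_of_injective hinj ⟨δ, hδ⟩
  obtain ⟨hi, h4, -⟩ := hq e.1 e.2
  have heq : q e.1 * g * (q e.1 * g) = δ := congrArg Subtype.val he
  exact ⟨heq ▸ (RootConnected.four_lines hD hi.mem hg.mem h4).2, q e.1, hi, h4, heq⟩

end Ctx

end Cfsg.Agent.RootStructure
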