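import Cfsg.Agent.Lib.RootStructure.Lines
import Cfsg.Agent.Lib.Involution.BaerSuzuki
import Cfsg.Agent.Lib.Cores.Basic

/-!
Root structure theorem (S5055; owner: helper1): isolated members and the group they generate.

* `Iso D d` : members commuting with `d` with no odd partner among these
* `isoGrp D d`, `isPGroup_isoGrp` : they generate a 2-group
* `zc D d j` : its upper central series, as sets of `G`
* `Ctx D` : the hypotheses; `Ctx.root`, `Ctx.mem_class_of_commute`
-/

set_option autoImplicit false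
set_option linter.unusedSectionVars false

namespace Cfsg.Agent.RootStructure

open Cfsg
open RootInv (OddP FourP)

universe u

variable {G : Type u} [Group G] {D : Set G}

/-- `w` commutes with `d` and has no odd partner commuting with `d`. -/
def Iso (D : Set G) (d w : G) : Prop :=
  w ∈ commutingMembers D d ∧ ∀ u ∈ commutingMembers D d, ¬ OddP w u

/-- The group generated by the isolated members at `d`. -/
def isoGrp (D : Set G) (d : G) : Subgroup G := Subgroup.closure {w | Iso D d w}

/-- The upper central series of `isoGrp D d`. -/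
def zc (D : Set G) (d : G) : ℕ → Set G
  | 0 => {1}
  | j + 1 => {g | g ∈ isoGrp D d ∧ ∀ x ∈ isoGrp D d, g * x * g⁻¹ * x⁻¹ ∈ zc D d j}

theorem iso_congr {d e : G} (h : commutingMembers D d = commutingMembers D e) : Iso D d = Iso D e := by
  funext w; simp [Iso, h]

theorem isoGrp_congr {d e : G} (h : commutingMembers D d = commutingMembers D e) :
    isoGrp D d = isoGrp D e := by rw [isoGrp, isoGrp, iso_congr h]

theorem zc_congr {d e : G} (h : commutingMembers D d = commutingMembers D e) (j : ℕ) :
    zc D d j = zc D e j := by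
  induction j with
  | zero => rfl
  | succ j ih => simp only [zc, isoGrp_congr h, ih]

theorem Iso.mem {d w : G} (h : Iso D d w) : w ∈ D := h.1.1

theorem Iso.comm {d w : G} (h : Iso D d w) : w * d = d * w := h.1.2

theorem Iso.mem_grp {d w : G} (h : Iso D d w) : w ∈ isoGrp D d := Subgroup.subset_closure h

theorem class_self {d : G} (hd : d ∈ D) : d ∈ sameCommutingClass D d := ⟨hd, rfl⟩

theorem class_symm {d e : G} (hd : d ∈ D) (h : e ∈ sameCommutingClass D d) :
    d ∈ sameCommutingClass D e := ⟨hd, h.2.symm⟩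

theorem class_eq {d e : G} (h : e ∈ sameCommutingClass D d) :
    sameCommutingClass D e = sameCommutingClass D d := by
  simp only [sameCommutingClass, h.2]

theorem class_comm {d e x : G} (h : e ∈ sameCommutingClass D d) (hx : x ∈ D) (hc : x * d = d * x) :
    x * e = e * x := ((h.2 ▸ ⟨hx, hc⟩ : x ∈ commutingMembers D e)).2

theorem class_comm' {d e x : G} (h : e ∈ sameCommutingClass D d) (hx : x ∈ D) (hc : x * e = e * x) :
    x * d = d * x := ((h.2.symm ▸ ⟨hx, hc⟩ : x ∈ commutingMembers D d)).2

theorem class_comm_class {d e f : G} (he : e ∈ sameCommutingClass D d) (hf : f ∈ sameCommutingClass D d) :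
    e * f = f * e := by
  have h : e ∈ commutingMembers D f := hf.2 ▸ he.2.symm ▸ ⟨he.1, rfl⟩
  exact h.2

section set

variable (hD : IsRootInvolutionSet D)
include hD

theorem class_odd {d e y : G} (hd : d ∈ D) (h : e ∈ sameCommutingClass D d) (hy : y ∈ D)
    (ho : OddP d y) : OddP e y := by
  have h1 := RootInv.same_of_commutingMembers hD hd h.1 h.2
  exact (RootInv.mem_oddPartners.1 (h1 ▸ RootInv.mem_oddPartners.2 ⟨hy, ho⟩)).2

theorem class_four {d e y : G} (hd : d ∈ D) (h : e ∈ sameCommutingClass D d) (hy : y ∈ D)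
    (hf : FourP d y) : FourP e y := by
  rcases RootInv.cases' hD h.1 hy with h' | h' | h'
  · exact absurd (class_comm' h hy h'.symm).symm (RootInv.not_commute_of_four hD hd hy hf)
  · exact absurd (class_odd hD h.1 (class_symm hd h) hy h') (RootInv.not_odd_of_four hD hf)
  · exact h'

theorem iso_of_class {d e : G} (hd : d ∈ D) (h : e ∈ sameCommutingClass D d) : Iso D d e := by
  rw [iso_congr h.2]
  exact ⟨⟨h.1, rfl⟩, fun u hu ho => RootInv.not_commute_of_odd hD h.1 hu.1 ho hu.2.symm⟩

theorem iso_of_line {d w : G} (h : ProdAdj D d w) : Iso D d w :=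
  ⟨⟨h.2.1, h.2.2.2.1.symm⟩, fun _ hu ho => line_moves hD (prodAdj_symm h) hu.1 ho hu.2.symm⟩

theorem Iso.commute_or_four {d x g : G} (hx : Iso D d x) (hg : Iso D d g) :
    x * g = g * x ∨ FourP x g := by
  rcases RootInv.cases' hD hx.mem hg.mem with h | h | h
  · exact Or.inl h
  · exact absurd h (hx.2 g hg.1)
  · exact Or.inr h

theorem commutingMembers_conj {d f : G} (g : G) (h : f ∈ commutingMembers D d) :
    g * f * g⁻¹ ∈ commutingMembers D (g * d * g⁻¹) :=
  ⟨hD.conj_mem f h.1 g, by rw [conj_mul, conj_mul, h.2]⟩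

theorem Iso.conj {d w : G} (g : G) (h : Iso D d w) : Iso D (g * d * g⁻¹) (g * w * g⁻¹) := by
  refine ⟨commutingMembers_conj hD g h.1, fun u hu ho => ?_⟩
  have hu' := commutingMembers_conj hD g⁻¹ hu
  rw [show g⁻¹ * (g * d * g⁻¹) * g⁻¹⁻¹ = d by group] at hu'
  have ho' := RootInv.conj_oddP hD (g := g⁻¹) ho
  rw [show g⁻¹ * (g * w * g⁻¹) * g⁻¹⁻¹ = w by group] at ho'
  exact h.2 _ hu' ho'

theorem class_conj {d e : G} (g : G) (h : e ∈ sameCommutingClass D d) :
    g * e * g⁻¹ ∈ sameCommutingClass D (g * d * g⁻¹) := by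
  have key : ∀ p q : G, commutingMembers D p = commutingMembers D q →
      commutingMembers D (g * p * g⁻¹) ⊆ commutingMembers D (g * q * g⁻¹) := by
    intro p q hpq f hf
    have h1 := commutingMembers_conj hD g⁻¹ hf
    rw [show g⁻¹ * (g * p * g⁻¹) * g⁻¹⁻¹ = p by group, hpq] at h1
    have h2 := commutingMembers_conj hD g h1
    rwa [show g * (g⁻¹ * f * g⁻¹⁻¹) * g⁻¹ = f by group] at h2
  exact ⟨hD.conj_mem e h.1 g, Set.Subset.antisymm (key d e h.2) (key e d h.2.symm)⟩

theorem isoGrp_conj {d n : G} (g : G) (h : n ∈ isoGrp D d) :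
    g * n * g⁻¹ ∈ isoGrp D (g * d * g⁻¹) := by
  induction h using Subgroup.closure_induction with
  | mem w hw => exact (Iso.conj hD g hw).mem_grp
  | one => rw [mul_one, mul_inv_cancel]; exact one_mem _
  | mul a b _ _ ha hb => rw [← conj_mul]; exact mul_mem ha hb
  | inv a _ ha => rw [← conj_inv]; exact inv_mem ha

theorem zc_conj {d n : G} (g : G) {j : ℕ} (h : n ∈ zc D d j) : g * n * g⁻¹ ∈ zc D (g * d * g⁻¹) j := by
  induction j generalizing n with
  | zero => rw [show n = 1 from h, mul_one, mul_inv_cancel]; rfl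
  | succ j ih =>
    refine ⟨isoGrp_conj hD g h.1, fun x hx => ?_⟩
    have hx' := isoGrp_conj hD g⁻¹ hx
    rw [show g⁻¹ * (g * d * g⁻¹) * g⁻¹⁻¹ = d by group] at hx'
    have h2 := ih (h.2 _ hx')
    rwa [show g * (n * (g⁻¹ * x * g⁻¹⁻¹) * n⁻¹ * (g⁻¹ * x * g⁻¹⁻¹)⁻¹) * g⁻¹ =
      g * n * g⁻¹ * x * (g * n * g⁻¹)⁻¹ * x⁻¹ by group] at h2

theorem commute_of_mem_isoGrp {d n : G} (h : n ∈ isoGrp D d) : n * d = d * n := by
  induction h using Subgroup.closure_induction with
  | mem w hw => exact hw.comm
  | one => simp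
  | mul a b _ _ ha hb => exact ((show Commute a d from ha).mul_left hb).eq
  | inv a _ ha => exact (show Commute a d from ha).inv_left.eq

theorem Iso.sq {d x y : G} (hx : Iso D d x) (hy : Iso D d y) (h : FourP x y) :
    Iso D d (x * y * (x * y)) := by
  have hxd : Commute x d := hx.comm
  have hc : Commute (x * y) d := hxd.mul_left hy.comm
  refine ⟨⟨RootInv.four_mem hD hx.mem hy.mem h, (hc.mul_left hc).eq⟩, fun u hu ho => ?_⟩
  have hl := (RootConnected.four_lines hD hx.mem hy.mem h).1
  rcases RootInv.odd_or_odd hD hl.2.1 hx.mem hu.1 hl.2.2.2.1 (hl.2.2.2.1 ▸ hl.2.2.2.2) ho with h' | h'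
  · exact hx.2 u hu h'
  · rw [← hl.2.2.2.1,
      show x * (x * y * (x * y)) = y * x * y⁻¹ by
        rw [RootInv.inv_eq hD hy.mem, show x * (x * y * (x * y)) = x * x * (y * x * y) by group,
          RootInv.mul_self hD hx.mem, one_mul]] at h'
    have h3 := hx.conj hD y
    rw [show y * d * y⁻¹ = d by rw [hy.comm, mul_inv_cancel_right]] at h3
    exact h3.2 u hu h'

theorem isPGroup_isoGrp [Finite G] (d : G) : IsPGroup 2 ↥(isoGrp D d) := by
  haveI : Fact (Nat.Prime 2) := ⟨Nat.prime_two⟩
  refine (Agent.Cores.pCore_eq_top_iff).1 (eq_top_iff.2 ?_)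
  rintro ⟨v, hv⟩ -
  induction hv using Subgroup.closure_induction with
  | one => exact one_mem (Cfsg.pCore 2 ↥(isoGrp D d))
  | mul p q _ _ hp hq => exact mul_mem hp hq
  | inv p _ hp => exact inv_mem hp
  | mem e he =>
    refine Agent.Cores.le_pCore
      (N := Subgroup.normalClosure ({⟨e, Iso.mem_grp he⟩} : Set ↥(isoGrp D d)))
      Subgroup.normalClosure_normal ?_ (Subgroup.subset_normalClosure rfl)
    refine Involution.baer_suzuki_element (⟨e, Iso.mem_grp he⟩ : ↥(isoGrp D d)) fun v => ?_
    have he' : Iso D d ((v : G) * e * (v : G)⁻¹) := by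
      have h1 := Iso.conj hD (v : G) he
      rwa [commute_of_mem_isoGrp hD v.2, mul_inv_cancel_right] at h1
    rcases eq_or_ne (⟨e, Iso.mem_grp he⟩ : ↥(isoGrp D d)) (v * ⟨e, Iso.mem_grp he⟩ * v⁻¹) with
      heq | hne'
    · rw [← heq, Set.pair_eq_singleton, ← Subgroup.zpowers_eq_closure]
      exact IsPGroup.of_card (n := 1) (by
        rw [Nat.card_zpowers, ← Subgroup.orderOf_coe]; exact hD.orderOf_eq e he.mem)
    refine Involution.isPGroup_closure_pair ?_ ?_ hne' (a := 2) ?_
    · rw [← Subgroup.orderOf_coe]; exact hD.orderOf_eq e he.mem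
    · rw [← Subgroup.orderOf_coe]; exact hD.orderOf_eq _ he'.mem
    · refine Subtype.ext ?_
      show (e * ((v : G) * e * (v : G)⁻¹)) ^ 4 = 1
      rcases Iso.commute_or_four hD he he' with h' | h'
      · rw [show 4 = 2 * 2 from rfl, pow_mul, _root_.sq (e * _),
          RootInv.sq_eq_one_of_commute hD he.mem he'.mem h', one_pow]
      · rw [← show orderOf (e * ((v : G) * e * (v : G)⁻¹)) = 4 from h']; exact pow_orderOf_eq_one _

/-- The series reaches the whole group. -/
theorem exists_zc_eq [Finite G] (d : G) : ∃ n : ℕ, ∀ g ∈ isoGrp D d, g ∈ zc D d n := by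
  haveI : Fact (Nat.Prime 2) := ⟨Nat.prime_two⟩
  have hnil : Group.IsNilpotent ↥(isoGrp D d) := (isPGroup_isoGrp hD d).isNilpotent
  obtain ⟨n, hn⟩ := hnil.nilpotent'
  have key : ∀ m : ℕ, ∀ g : ↥(isoGrp D d), g ∈ Subgroup.upperCentralSeries ↥(isoGrp D d) m →
      (g : G) ∈ zc D d m := by
    intro m
    induction m with
    | zero =>
      intro g hg
      rw [Subgroup.upperCentralSeries_zero, Subgroup.mem_bot] at hg
      subst hg; rfl
    | succ m ih =>
      intro g hg
      exact ⟨g.2, fun x hx => ih _ (Subgroup.mem_upperCentralSeries_succ_iff.1 hg ⟨x, hx⟩)⟩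
  exact ⟨n, fun g hg => key n ⟨g, hg⟩ (by rw [hn]; exact Subgroup.mem_top _)⟩

/-- A member of `D` in the group is isolated. -/
theorem iso_of_mem_isoGrp [Finite G] {d e : G} (he : e ∈ D) (h : e ∈ isoGrp D d) : Iso D d e := by
  haveI : Fact (Nat.Prime 2) := ⟨Nat.prime_two⟩
  refine ⟨⟨he, commute_of_mem_isoGrp hD h⟩, fun u hu ho => ?_⟩
  have hue : u * e * u ∈ isoGrp D d := by
    have h1 := isoGrp_conj hD u h
    rw [show u * d * u⁻¹ = d by rw [hu.2, mul_inv_cancel_right], RootInv.inv_eq hD hu.1] at h1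
    exact h1
  have hp : (e * u) ^ 2 ∈ isoGrp D d := by
    rw [_root_.sq, show e * u * (e * u) = e * (u * e * u) by group]
    exact mul_mem h hue
  obtain ⟨k, hk⟩ := (isPGroup_isoGrp hD d) ⟨_, hp⟩
  have hk' : (e * u) ^ (2 ^ (k + 1)) = 1 := by
    have := congrArg Subtype.val hk
    rw [Subgroup.coe_pow, Subgroup.coe_one, ← pow_mul, ← pow_succ'] at this
    exact this
  have h1 := (Nat.Coprime.pow_right (k + 1) (Nat.coprime_two_right.2 ho.2)).eq_one_of_dvd
    (orderOf_dvd_of_pow_eq_one hk')
  refine ho.1 ?_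
  have h2 := orderOf_eq_one_iff.1 h1
  rwa [mul_eq_one_iff_eq_inv, RootInv.inv_eq hD hu.1] at h2

end set

/-- The hypotheses used for the root structure theorem. -/
structure Ctx (D : Set G) : Prop where
  set : IsRootInvolutionSet D
  conn : IsConnectedSet (OddAdj D) D
  gen : ∀ d ∈ D, ∀ x ∈ oddPartners D d, Subgroup.closure (productPartners D d ∪ {x}) = ⊤
  center : Subgroup.center G = ⊥
  four : ∀ d ∈ D, ∃ e ∈ D, FourP d e
  mul_mem : ∀ d ∈ D, ∀ e ∈ sameCommutingClass D d, ∀ f ∈ sameCommutingClass D d, e ≠ f →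
    e * f ∈ sameCommutingClass D d

namespace Ctx

variable [Finite G] (C : Ctx D)
include C

theorem mem_class_iff {d e : G} (hd : d ∈ D) (he : e ∈ D) :
    e ∈ sameCommutingClass D d ↔ oddPartners D d = oddPartners D e := by
  rw [← RootInv.commutingMembers_eq_iff C.set C.conn hd he]
  exact ⟨fun h => h.2, fun h => ⟨he, h⟩⟩

/-- A line through two classes has a root. -/
theorem root {u v : G} (h : ProdAdj D u v) (hne : v ∉ sameCommutingClass D u) :
    ∃ w ∈ D, FourP w v ∧ w * v * (w * v) = u ∧ ProdAdj D u w :=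
  RootConnected.exists_four_partner C.conn C.set h fun e =>
    hne ((C.mem_class_iff h.1 h.2.1).2 e.symm)

/-- A member commuting with all line partners of `a` is in the class of `a`. -/
theorem mem_class_of_commute {a c : G} (ha : a ∈ D) (hc : c ∈ D)
    (h : ∀ e, ProdAdj D a e → c * e = e * c) : c ∈ sameCommutingClass D a := by
  have hD := C.set
  have hca : c * a = a * c := by
    obtain ⟨e, he, hae⟩ := C.four a ha
    have hl := (RootConnected.four_lines hD ha he hae).1
    obtain ⟨-, hz, hne, hcom, hm⟩ := hl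
    set z := a * e * (a * e)
    have hl2 : ProdAdj D a (a * z) := ⟨ha, hm, fun e => RootInv.ne_one hD hz (left_eq_mul.1 e), by
      rw [mul_assoc, ← hcom], by rw [← mul_assoc, RootInv.mul_self hD ha, one_mul]; exact hz⟩
    have h1 : Commute c (a * z) := h _ hl2
    have h2 : Commute c z := h z ⟨ha, hz, hne, hcom, hm⟩
    have h3 := h1.mul_right h2.inv_right
    rwa [mul_inv_cancel_right] at h3
  rcases eq_or_ne c a with rfl | hne
  · exact class_self hc
  have hmut : ∀ b, ProdAdj D c b → b * a = a * b := by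
    intro b hb
    rcases RootInv.cases' hD hb.2.1 ha with h' | h' | h'
    · exact h'
    · exact absurd hca (line_moves hD (prodAdj_symm hb) ha h')
    · exfalso
      have hab : FourP a b := RootInv.fourP_symm hD hb.2.1 ha h'
      set k := a * b * (a * b) with hk
      obtain ⟨hl1, hl2⟩ := RootConnected.four_lines hD ha hb.2.1 hab
      have hkne : k ∉ sameCommutingClass D a := fun hka =>
        RootInv.not_commute_of_four hD ha hb.2.1 hab
          (class_comm' hka hb.2.1 hl2.2.2.2.1.symm).symm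
      obtain ⟨x, hx, hxk, hxa, hax⟩ := C.root hl1 hkne
      have hch := (four_chain hD hb.2.1 ha hx hab hk.symm hxk hxa).1
      exact line_moves hD (prodAdj_symm hb) hx hch (h x hax)
  have hsub : oddPartners D a ⊆ oddPartners D c := by
    intro y hy
    obtain ⟨hyD, hay⟩ := RootInv.mem_oddPartners.1 hy
    refine RootInv.mem_oddPartners.2 ⟨hyD, ?_⟩
    rcases RootInv.cases' hD hc hyD with h' | h' | h'
    · exfalso
      have hle : Subgroup.closure (productPartners D a ∪ {y}) ≤ Subgroup.centralizer {c} := by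
        rw [Subgroup.closure_le]
        rintro e (he | rfl)
        · exact Subgroup.mem_centralizer_singleton_iff.2 (h e ((mem_productPartners hD ha).1 he)).symm
        · exact Subgroup.mem_centralizer_singleton_iff.2 h'.symm
      rw [C.gen a ha y hy, top_le_iff] at hle
      have hcz : c ∈ Subgroup.center G := Subgroup.mem_center_iff.2 fun g =>
        Subgroup.mem_centralizer_singleton_iff.1 (hle ▸ Subgroup.mem_top g)
      rw [C.center, Subgroup.mem_bot] at hcz
      exact RootInv.ne_one hD hc hcz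
    · exact h'
    · exfalso
      have hl := (RootConnected.four_lines hD hc hyD h').1
      have h4 := RootInv.push hD ha hyD hc hay hca h'
      exact RootInv.not_commute_of_four hD hl.2.1 ha h4 (hmut _ hl)
  exact (C.mem_class_iff ha hc).2 (RootInv.oddPartners_eq_of_subset hD C.conn ha hc hsub)

end Ctx

end Cfsg.Agent.RootStructure
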