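import Cfsg.Agent.Lib.RootConnected.Generation

/-!
Root structure theorem (S5055; owner: helper1): computations on lines.

* `four_comm`, `four_conj` : a pair with product of order four
* `four_chain` : two roots along a chain of lines have product of order three
* `braid_root` : the root of a member beside a pair with product of order three
-/

set_option autoImplicit false
set_option linter.unusedSectionVars false

namespace Cfsg.Agent.RootStructure

open Cfsg
open RootInv (OddP FourP)

variable {G : Type*} [Group G] {D : Set G}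

theorem prodAdj_symm {a b : G} (h : ProdAdj D a b) : ProdAdj D b a :=
  ⟨h.2.1, h.1, h.2.2.1.symm, h.2.2.2.1.symm, h.2.2.2.1 ▸ h.2.2.2.2⟩

section set

variable (hD : IsRootInvolutionSet D)
include hD

theorem mem_productPartners {d e : G} (hd : d ∈ D) : e ∈ productPartners D d ↔ ProdAdj D d e := by
  constructor
  · rintro ⟨⟨he, hc, hne⟩, hm⟩
    exact ⟨hd, he, hne.symm, hc.symm, hc ▸ hm⟩
  · rintro ⟨-, he, hne, hc, hm⟩
    exact ⟨⟨he, hc.symm, hne.symm⟩, hc ▸ hm⟩

theorem line_moves {a b u : G} (h : ProdAdj D a b) (hu : u ∈ D) (ho : OddP a u) : b * u ≠ u * b :=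
  RootInv.not_commute_line hD h.1 h.2.1 hu h.2.2.2.1.symm h.2.2.2.2 ho

theorem four_comm {a b : G} (ha : a ∈ D) (hb : b ∈ D) (h : FourP a b) :
    b * a * (b * a) = a * b * (a * b) := by
  have h' := inv_eq_of_mul_eq_one_right (RootInv.four_pow hD h)
  rw [mul_inv_rev, mul_inv_rev, RootInv.inv_eq hD ha, RootInv.inv_eq hD hb] at h'
  exact h'

theorem four_conj {a b z : G} (ha : a ∈ D) (hb : b ∈ D) (h : FourP a b) (hz : a * b * (a * b) = z) :
    b * a * b = z * a ∧ a * b * a = z * b := by
  subst hz
  refine ⟨?_, ?_⟩
  · rw [(RootInv.four_commute_left hD ha hb h).eq,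
      show a * (a * b * (a * b)) = a * a * (b * a * b) by group, RootInv.mul_self hD ha, one_mul]
  · rw [show a * b * (a * b) * b = a * b * a * (b * b) by group, RootInv.mul_self hD hb, mul_one]

/-- A root `w` of `b` over `a` and a root `u` of `w` over `b`: `a u` has order three. -/
theorem four_chain {a b w u : G} (ha : a ∈ D) (hw : w ∈ D) (hu : u ∈ D) (hwa : FourP w a)
    (hwb : w * a * (w * a) = b) (hub : FourP u b) (huw : u * b * (u * b) = w) :
    OddP a u ∧ a * u * a = u * a * u ∧ a * u * a * b * (a * u * a) = w ∧ a * u * a ∈ D := by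
  have hb : b ∈ D := hwb ▸ RootInv.four_mem hD hw ha hwa
  have hab : b * a = a * b := hwb ▸ (RootInv.four_commute_right hD hw ha hwa).eq
  have hwb' : b * w = w * b := hwb ▸ (RootInv.four_commute_left hD hw ha hwa).eq
  have habD : a * b ∈ D := by
    rw [← hab, ← hwb, show w * a * (w * a) * a = w * a * w * (a * a) by group, RootInv.mul_self hD ha,
      mul_one]
    exact RootInv.conj_mem' hD ha hw
  have hawa : a * w * a = w * b := by rw [(four_conj hD hw ha hwa hwb).1, hwb']
  have hodd : OddP a u := by
    rcases RootInv.cases' hD hu ha with h | h | h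
    · exfalso
      refine RootInv.not_commute_of_four hD hw ha hwa ?_
      have hca : Commute a (u * b) := (show Commute a u from h.symm).mul_right hab.symm
      exact huw ▸ (hca.mul_right hca).symm.eq
    · exact RootInv.oddP_symm hD hu ha h
    · exfalso
      exact RootInv.ne_one hD hb (RootInv.no_flip (RootInv.mul_self hD hu) (RootInv.mul_self hD ha)
        (RootInv.mul_self hD hb) hab huw.symm (RootInv.mul_self hD hw) (RootInv.four_pow hD h) hawa)
  have hubu : u * b * u = w * b := (four_conj hD hu hb hub huw).2
  have hwu : w * u = u * w := huw ▸ (RootInv.four_commute_left hD hu hb hub).eq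
  have habab : a * b * a = b := by
    rw [← hab, mul_assoc, RootInv.mul_self hD ha, mul_one]
  set r := a * u with hr_def
  have hrb : r * b * r⁻¹ = w := by
    rw [hr_def, mul_inv_rev, RootInv.inv_eq hD hu, RootInv.inv_eq hD ha,
      show a * u * b * (u * a) = a * (u * b * u) * a by group, hubu,
      show a * (w * b) * a = a * w * 1 * b * a by group, ← RootInv.mul_self hD ha,
      show a * w * (a * a) * b * a = a * w * a * (a * b * a) by group, hawa, habab, mul_assoc,
      RootInv.mul_self hD hb, mul_one]
  have hrw : r * w * r⁻¹ = w * b := by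
    rw [hr_def, mul_inv_rev, RootInv.inv_eq hD hu, RootInv.inv_eq hD ha,
      show a * u * w * (u * a) = a * (u * w) * u * a by group, ← hwu,
      show a * (w * u) * u * a = a * w * (u * u) * a by group, RootInv.mul_self hD hu, mul_one, hawa]
  have hr3b : Commute (r ^ 3) b := by
    show r ^ 3 * b = b * r ^ 3
    calc r ^ 3 * b = r * (r * (r * b * r⁻¹) * r⁻¹) * r⁻¹ * r ^ 3 := by
          simp only [pow_succ, pow_zero, one_mul]; group
      _ = r * (w * b) * r⁻¹ * r ^ 3 := by rw [hrb, hrw]
      _ = (r * w * r⁻¹) * (r * b * r⁻¹) * r ^ 3 := by group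
      _ = b * r ^ 3 := by
          rw [hrw, hrb, ← hwb', mul_assoc b w w, RootInv.mul_self hD hw, mul_one]
  have hr3 : r ^ 3 = 1 := by
    by_contra hne3
    obtain ⟨m, hm⟩ := hodd.2
    have hconjD : a * r ^ 3 ∈ D := by
      obtain ⟨c, -, hc'⟩ := (Involution.exists_conj_eq_mul_zpow_iff (hD.orderOf_eq a ha) (hD.orderOf_eq u hu) 3).2
        ⟨3 * ((m : ℤ) + 1), 3, by rw [hm]; push_cast; ring⟩
      have h' := hD.conj_mem a ha c
      rw [hc'] at h'
      exact_mod_cast h'
    have ho : OddP a (a * r ^ 3) := by
      refine ⟨fun e => hne3 (left_eq_mul.1 e), ?_⟩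
      rw [← mul_assoc, RootInv.mul_self hD ha, one_mul]
      exact Odd.of_dvd_nat hodd.2 (orderOf_pow_dvd 3)
    exact RootInv.not_commute_line hD ha hb hconjD hab habD ho
      ((show Commute b a from hab).mul_right hr3b.symm).eq
  have hbraid : a * u * a = u * a * u := by
    have h1 : r * r * r = 1 := by rw [← hr3]; simp only [pow_succ, pow_zero, one_mul]
    have h2 : a * u * a = (u * a * u)⁻¹ := by
      refine eq_inv_of_mul_eq_one_left ?_
      rw [show a * u * a * (u * a * u) = a * u * (a * u) * (a * u) by group]
      exact h1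
    rw [h2, mul_inv_rev, mul_inv_rev, RootInv.inv_eq hD hu, RootInv.inv_eq hD ha, mul_assoc]
  refine ⟨hodd, hbraid, ?_, RootInv.conj_mem' hD hu ha⟩
  rw [show a * u * a * b * (a * u * a) = a * u * (a * b * a) * u * a by group, habab, ← hrb, hr_def,
    mul_inv_rev, RootInv.inv_eq hD hu, RootInv.inv_eq hD ha]
  group

/-- The root of `v` beside a pair `z y` with product of order three. -/
theorem braid_root {z y v : G} (hy : y ∈ D) (ho : OddP z y) (hb : z * y * z = y * z * y)
    (hzv : ProdAdj D z v) (hvy : FourP v y) :
    v * y * (v * y) = z * (y * v * y) * z ∧ FourP (v * y * (v * y)) z ∧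
      v * y * (v * y) * z * (v * y * (v * y) * z) = v := by
  obtain ⟨hz, hv, -, hzvc, hzvD⟩ := hzv
  set x := y * v * y with hx_def
  have hx : x ∈ D := RootInv.conj_mem' hD hv hy
  set W := v * y * (v * y) with hW_def
  set X := z * x * z with hX_def
  have hX : X ∈ D := RootInv.conj_mem' hD hx hz
  have hW : W ∈ D := RootInv.four_mem hD hv hy hvy
  have hWx : W = v * x := by rw [hW_def, hx_def]; group
  have hvx : x * v = v * x := by
    have h1 : W * v = v * W := (RootInv.four_commute_left hD hv hy hvy).eq
    rw [hWx, mul_assoc] at h1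
    exact mul_left_cancel h1
  have hzvz : z * v * z = v := by rw [hzvc, mul_assoc, RootInv.mul_self hD hz, mul_one]
  have hXy : X * y = y * X := by
    have h1 : y * X * y = X := by
      calc y * X * y = (y * z * y) * v * (y * z * y) := by rw [hX_def, hx_def]; group
        _ = z * y * (z * v * z) * y * z := by rw [← hb]; group
        _ = X := by rw [hzvz, hX_def, hx_def]; group
    calc X * y = (y * X * y) * y := by rw [h1]
      _ = y * X := by rw [mul_assoc, RootInv.mul_self hD hy, mul_one]
  have hyX : y * X ∈ D := by
    have h1 : y * X = z * (y * (z * v) * y) * z := by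
      calc y * X = (y * z * y) * v * y * z := by rw [hX_def, hx_def]; group
        _ = _ := by rw [← hb]; group
    rw [h1]
    exact RootInv.conj_mem' hD (RootInv.conj_mem' hD hzvD hy) hz
  have hXz : FourP X z := by
    have h1 : X * z = z * x := by rw [hX_def, mul_assoc, RootInv.mul_self hD hz, mul_one]
    have h2 : y * (z * x) * y⁻¹ = z * (y * v) * z⁻¹ := by
      rw [RootInv.inv_eq hD hy, RootInv.inv_eq hD hz, hx_def]
      calc y * (z * (y * v * y)) * y = (y * z * y) * v * (y * y) := by group
        _ = z * y * (z * v) := by rw [← hb, RootInv.mul_self hD hy]; group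
        _ = _ := by rw [hzvc]; group
    show orderOf (X * z) = 4
    rw [h1, ← Involution.orderOf_conj y (z * x), h2, Involution.orderOf_conj]
    exact RootInv.fourP_symm hD hv hy hvy
  have hWz : FourP W z := RootInv.push hD hz hy hv ho hzvc.symm hvy
  have hWy : W * y = y * W := (RootInv.four_commute_right hD hv hy hvy).eq
  have hyW : y * W ∈ D := by
    rw [← hWy, hW_def, show v * y * (v * y) * y = v * y * v * (y * y) by group, RootInv.mul_self hD hy,
      mul_one]
    exact RootInv.conj_mem' hD hy hv
  have himg : W * z * (W * z) = X * z * (X * z) := by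
    have hvW : v * W = x := by rw [hWx, ← mul_assoc, RootInv.mul_self hD hv, one_mul]
    calc W * z * (W * z) = v * y * (v * y) * (z * v) * (y * v * y) * z := by rw [hW_def]; group
      _ = v * (y * v * (y * v)) * z * (y * v * y) * z := by rw [hzvc]; group
      _ = v * W * z * x * z := by rw [four_comm hD hv hy hvy]
      _ = x * z * x * z := by rw [hvW]
      _ = z * x * (z * x) := by
          have h4 : FourP x z := by
            have h1 : FourP z x := by
              show orderOf (z * x) = 4
              rw [← show X * z = z * x by rw [hX_def, mul_assoc, RootInv.mul_self hD hz, mul_one]]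
              exact hXz
            exact RootInv.fourP_symm hD hz hx h1
          rw [four_comm hD hx hz h4]; group
      _ = X * z * (X * z) := by
          rw [hX_def, mul_assoc (z * x) z z, RootInv.mul_self hD hz, mul_one]
  have heq : W = X := RootInv.injOn_lineSet hD hy hz (RootInv.oddP_symm hD hz hy ho)
    ⟨hW, hWy, hyW, hWz⟩ ⟨hX, hXy, hyX, hXz⟩ himg
  refine ⟨heq, hWz, ?_⟩
  have hzWz : z * W * z = x := by
    rw [heq, hX_def, show z * (z * x * z) * z = z * z * x * (z * z) by group, RootInv.mul_self hD hz,
      one_mul, mul_one]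
  calc W * z * (W * z) = W * (z * W * z) := by group
    _ = v * x * x := by rw [hzWz, hWx]
    _ = v := by rw [mul_assoc, RootInv.mul_self hD hx, mul_one]

end set

end Cfsg.Agent.RootStructure
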