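import Cfsg.Agent.Lib.RootStructure.Claim

/-!
Root structure theorem (S5055; owner: helper1): the structure of the isolated members.

* `Ctx.sqInClass` : the induction
* `Ctx.iso_eq` : the isolated members at `d` are `d` and its line partners
* `Ctx.commutator_eq` : the commutator subgroup of their group
* `Ctx.structure_theorem`
-/

set_option autoImplicit false
set_option linter.unusedSectionVars false

namespace Cfsg.Agent.RootStructure

open Cfsg
open RootInv (OddP FourP)
open scoped commutatorElement

universe u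

variable {G : Type u} [Group G] {D : Set G}

theorem isolated_eq (d : G) :
    {w | IsIsolatedElem (OddAdj (commutingMembers D d)) (commutingMembers D d) w} = {w | Iso D d w} := by
  ext w
  constructor
  · rintro ⟨hw, h⟩
    exact ⟨hw, fun u hu ho => (h u).1 ⟨hw, hu, ho⟩⟩
  · rintro ⟨hw, h⟩
    refine ⟨hw, fun u => ⟨fun ha => h u ha.2.1 ha.2.2, fun ha => h u ha.1 ⟨ha.2.2.1.symm, ?_⟩⟩⟩
    rw [show w * u = w * (u * w) * w⁻¹ by group, Involution.orderOf_conj]
    exact ha.2.2.2

theorem commutatorElement_eq {a b : G} (hD : IsRootInvolutionSet D) (ha : a ∈ D) (hb : b ∈ D) :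
    ⁅a, b⁆ = a * b * (a * b) := by
  rw [commutatorElement_def, RootInv.inv_eq hD ha, RootInv.inv_eq hD hb]
  group

namespace Ctx

variable [Finite G] (C : Ctx D)
include C

theorem sqInClass : ∀ j, SqInClass D j := by
  have hD := C.set
  intro j
  induction j with
  | zero => exact fun d _ g hg hgz => absurd hgz (RootInv.ne_one hD hg.mem)
  | succ j ih =>
    intro d hd g hg hgz x hx hxg
    have hgE : g ∉ sameCommutingClass D d := fun h =>
      RootInv.not_commute_of_four hD hx.mem hg.mem hxg (class_comm h hx.mem hx.comm)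
    have hsq : ∀ y, Iso D d y → FourP y g → y * g * (y * g) ∈ zc D d j := by
      intro y hy h
      rw [← four_comm hD hy.mem hg.mem h, ← commutatorElement_eq hD hg.mem hy.mem]
      exact hgz.2 y hy.mem_grp
    obtain ⟨v, hv, hmove⟩ : ∃ e, ProdAdj D d e ∧ g * e ≠ e * g := by
      by_contra hall
      push Not at hall
      exact hgE (C.mem_class_of_commute hd hg.mem hall)
    have hvi := iso_of_line hD hv
    have hvg : FourP v g := (hvi.commute_or_four hD hg).resolve_left fun e => hmove e.symm
    have ht := C.claim hd ih hv hg hvg (hsq v hvi hvg)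
    set t := v * g * (v * g) with ht_def
    have htg : ProdAdj D t g := (RootConnected.four_lines hD hvi.mem hg.mem hvg).2
    have hgx := RootInv.fourP_symm hD hx.mem hg.mem hxg
    have hs : g * x * (g * x) ∈ zc D t j := by
      rw [four_comm hD hx.mem hg.mem hxg, ← zc_congr ht.2 j]
      exact hsq x hx hxg
    have h := C.claim ht.1 ih htg (iso_congr ht.2 ▸ hx) hgx hs
    rwa [class_eq ht, four_comm hD hx.mem hg.mem hxg] at h

theorem exists_full {d : G} :
    ∃ n, ∀ g, Iso D d g → g ∈ zc D d n :=
  let ⟨n, hn⟩ := exists_zc_eq C.set d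
  ⟨n, fun g hg => hn g hg.mem_grp⟩

theorem sq_mem {d : G} (hd : d ∈ D) {x g : G} (hx : Iso D d x) (hg : Iso D d g) (h : FourP x g) :
    x * g * (x * g) ∈ sameCommutingClass D d :=
  let ⟨n, hn⟩ := C.exists_full (d := d)
  C.sqInClass n d hd g hg (hn g hg) x hx h

theorem iso_iff {d w : G} (hd : d ∈ D) :
    Iso D d w ↔ w ∈ productPartners D d ∪ {d} := by
  have hD := C.set
  constructor
  · intro hw
    by_cases hwd : w = d
    · exact Or.inr hwd
    refine Or.inl ((mem_productPartners hD hd).2 (prodAdj_of hD hd hw.mem hw.comm.symm ?_))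
    by_cases hwE : w ∈ sameCommutingClass D d
    · exact (C.mul_mem d hd d (class_self hd) w hwE (Ne.symm hwd)).1
    · obtain ⟨n, hn⟩ := C.exists_full (d := d)
      exact (C.delta hd (C.sqInClass n) hw (hn w hw) hwE (class_self hd)).1.2.2.2.2
  · rintro (h | rfl)
    · exact iso_of_line hD ((mem_productPartners hD hd).1 h)
    · exact iso_of_class hD hd (class_self hd)

theorem iso_eq {d : G} (hd : d ∈ D) : {w | Iso D d w} = productPartners D d ∪ {d} :=
  Set.ext fun _ => C.iso_iff hd

theorem central {d e : G} (he : e ∈ sameCommutingClass D d) {y : G} (hy : y ∈ isoGrp D d) :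
    e * y = y * e := by
  induction hy using Subgroup.closure_induction with
  | mem w hw => exact (class_comm he hw.mem hw.comm).symm
  | one => simp
  | mul a b _ _ ha hb => exact ((show Commute e a from ha).mul_right hb).eq
  | inv a _ ha => exact ((show Commute e a from ha).inv_right).eq

theorem central_closure {d e : G} (he : e ∈ sameCommutingSubgroup D d) {y : G} (hy : y ∈ isoGrp D d) :
    e * y = y * e := by
  induction he using Subgroup.closure_induction with
  | mem w hw => exact C.central hw hy
  | one => simp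
  | mul a b _ _ ha hb => exact ((show Commute a y from ha).mul_left hb).eq
  | inv a _ ha => exact ((show Commute a y from ha).inv_left).eq

theorem commutator_mem {d : G} (hd : d ∈ D) {a b : G} (ha : a ∈ isoGrp D d) (hb : b ∈ isoGrp D d) :
    ⁅a, b⁆ ∈ sameCommutingSubgroup D d := by
  have hD := C.set
  have hgen : ∀ x, Iso D d x → ∀ y, Iso D d y → ⁅x, y⁆ ∈ sameCommutingSubgroup D d := by
    intro x hx y hy
    rcases hx.commute_or_four hD hy with h | h
    · rw [(commutatorElement_eq_one_iff_commute (g₁ := x) (g₂ := y)).2 h]; exact one_mem _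
    · rw [commutatorElement_eq hD hx.mem hy.mem]
      exact Subgroup.subset_closure (C.sq_mem hd hx hy h)
  -- left products
  have hmul : ∀ {p q c : G}, p ∈ isoGrp D d → ⁅p, c⁆ ∈ sameCommutingSubgroup D d →
      ⁅q, c⁆ ∈ sameCommutingSubgroup D d → ⁅p * q, c⁆ ∈ sameCommutingSubgroup D d := by
    intro p q c hp h1 h2
    rw [show ⁅p * q, c⁆ = p * ⁅q, c⁆ * p⁻¹ * ⁅p, c⁆ by
      simp only [commutatorElement_def]; group]
    rw [← C.central_closure h2 hp, mul_inv_cancel_right]
    exact Subgroup.mul_mem _ h2 h1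
  have hinv : ∀ {p c : G}, p ∈ isoGrp D d → ⁅p, c⁆ ∈ sameCommutingSubgroup D d →
      ⁅p⁻¹, c⁆ ∈ sameCommutingSubgroup D d := by
    intro p c hp h
    rw [show ⁅p⁻¹, c⁆ = p⁻¹ * ⁅p, c⁆⁻¹ * p⁻¹⁻¹ by simp only [commutatorElement_def]; group,
      ← C.central_closure (inv_mem h) (inv_mem hp), mul_inv_cancel_right]
    exact inv_mem h
  have hleft : ∀ {c : G}, (∀ x, Iso D d x → ⁅x, c⁆ ∈ sameCommutingSubgroup D d) →
      ∀ {p : G}, p ∈ isoGrp D d → ⁅p, c⁆ ∈ sameCommutingSubgroup D d := by
    intro c h p hp
    induction hp using Subgroup.closure_induction with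
    | mem w hw => exact h w hw
    | one => rw [commutatorElement_one_left]; exact one_mem _
    | mul p q hp' _ hp hq => exact hmul hp' hp hq
    | inv p hp' hp => exact hinv hp' hp
  refine hleft (fun x hx => ?_) ha
  rw [← commutatorElement_inv]
  exact inv_mem (hleft (fun y hy => by rw [← commutatorElement_inv]; exact inv_mem (hgen x hx y hy)) hb)

theorem class_le_commutator {d e : G} (hd : d ∈ D) (he : e ∈ sameCommutingClass D d) :
    e ∈ ⁅isoGrp D d, isoGrp D d⁆ := by
  have hD := C.set
  obtain ⟨q, hq, hdq⟩ := C.four d hd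
  obtain ⟨hl1, hl2⟩ := RootConnected.four_lines hD hd hq hdq
  have hgi := iso_of_line hD hl1
  have hgE : d * q * (d * q) ∉ sameCommutingClass D d := fun h =>
    RootInv.not_commute_of_four hD hd hq hdq (class_comm' h hq hl2.2.2.2.1.symm).symm
  obtain ⟨n, hn⟩ := C.exists_full (d := d)
  obtain ⟨-, x, hx, -, hxe⟩ := C.delta hd (C.sqInClass n) hgi (hn _ hgi) hgE he
  rw [← hxe, ← commutatorElement_eq hD hx.mem hgi.mem]
  exact Subgroup.commutator_mem_commutator hx.mem_grp hgi.mem_grp

theorem structure_theorem {d : G} (hd : d ∈ D) :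
    Subgroup.closure {w | IsIsolatedElem (OddAdj (commutingMembers D d)) (commutingMembers D d) w} =
      Subgroup.closure (productPartners D d ∪ {d}) ∧
    D ∩ (Subgroup.closure (productPartners D d ∪ {d}) : Set G) = productPartners D d ∪ {d} ∧
    ⁅Subgroup.closure (productPartners D d ∪ {d}), Subgroup.closure (productPartners D d ∪ {d})⁆ =
      sameCommutingSubgroup D d ∧
    sameCommutingClass D d = {e | e ∈ D ∧ e ∈ Subgroup.closure (productPartners D d ∪ {d}) ∧
      ∀ y ∈ Subgroup.closure (productPartners D d ∪ {d}), e * y = y * e} := by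
  have hD := C.set
  have hN : Subgroup.closure (productPartners D d ∪ {d}) = isoGrp D d := by
    rw [isoGrp, C.iso_eq hd]
  refine ⟨by rw [isolated_eq, C.iso_eq hd], ?_, ?_, ?_⟩
  · rw [hN]
    ext e
    refine ⟨fun he => (C.iso_iff hd).1 (iso_of_mem_isoGrp hD he.1 he.2), fun he => ?_⟩
    have hi := (C.iso_iff hd).2 he
    exact ⟨hi.mem, hi.mem_grp⟩
  · rw [hN]
    refine le_antisymm (Subgroup.commutator_le.2 fun a ha b hb => C.commutator_mem hd ha hb) ?_
    exact (Subgroup.closure_le _).2 fun e he => C.class_le_commutator hd he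
  · rw [hN]
    ext e
    refine ⟨fun he => ⟨he.1, (iso_of_class hD hd he).mem_grp, fun y hy => C.central he hy⟩, ?_⟩
    rintro ⟨heD, -, hc⟩
    exact C.mem_class_of_commute hd heD fun f hf => hc f (iso_of_line hD hf).mem_grp

end Ctx

end Cfsg.Agent.RootStructure
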